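import Groth.Agent.ConsPropLib.FibreLoci
import Groth.Agent.CurveCohLib.SmoothCurve
import Groth.Agent.S14401
import Groth.Agent.S4599
import Groth.Prelude.Def_MoreMor

/-!
# Fibrewise closures of opens for smooth morphisms
-/

set_option autoImplicit false

universe u

open CategoryTheory CategoryTheory.Limits AlgebraicGeometry Topology

namespace Groth.Agent.EtPBC63.SmoothDense

variable {X Y : Scheme.{u}} (f : X ⟶ Y)

/-- The union of the closures of `E` inside the fibres of `f`. -/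
def fibClosure (E : Set X) : Set X := {x | x ∈ closure (E ∩ f ⁻¹' {f x})}

/-- Membership in the closure inside a fibre is stable under base change. -/
theorem mem_fibClosure_of_isPullback {X' Y' : Scheme.{u}} {f' : X' ⟶ Y'} {p : X' ⟶ X} {h : Y' ⟶ Y}
    (sq : IsPullback p f' f h) (E : Set X) (x : X') (hx : p x ∈ fibClosure f E) : x ∈ fibClosure f' (p ⁻¹' E) := by
  obtain ⟨e, -, heo, hep⟩ := Groth.Agent.ConsPropLib.exists_fibre_openSurjective sq (f' x)
  obtain ⟨w, hw⟩ : x ∈ Set.range (f'.fiberι (f' x)) := (f'.range_fiberι _).ge rfl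
  have hfx : f (p x) = h (f' x) := by rw [← Scheme.Hom.comp_apply, sq.w]; rfl
  have hew : f.fiberι (h (f' x)) (e w) = p x := by
    rw [← Scheme.Hom.comp_apply, ← hep, Scheme.Hom.comp_apply, hw]
  have h1 : e w ∈ closure (f.fiberι (h (f' x)) ⁻¹' E) := by
    rw [(f.fiberι _).isEmbedding.isInducing.closure_eq_preimage_closure_image,
      Set.image_preimage_eq_inter_range, Scheme.Hom.range_fiberι, Set.mem_preimage, hew]
    have hx' : p x ∈ closure (E ∩ f ⁻¹' {f (p x)}) := hx
    rwa [hfx] at hx'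
  have h2 : w ∈ closure (e ⁻¹' (f.fiberι (h (f' x)) ⁻¹' E)) :=
    (heo.preimage_closure_eq_closure_preimage e.continuous _).le h1
  have h3 : x ∈ closure (f'.fiberι (f' x) '' (e ⁻¹' (f.fiberι (h (f' x)) ⁻¹' E))) :=
    image_closure_subset_closure_image (f'.fiberι _).continuous ⟨w, h2, hw⟩
  refine closure_mono ?_ h3
  rintro _ ⟨v, hv, rfl⟩
  refine ⟨?_, (f'.range_fiberι _).le ⟨v, rfl⟩⟩
  show p (f'.fiberι _ v) ∈ E
  rw [← Scheme.Hom.comp_apply, hep, Scheme.Hom.comp_apply]
  exact hv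

theorem isLocallyConstructible_fibClosure [IsAffine X] [IsAffine Y] [LocallyOfFinitePresentation f]
    (E : X.Opens) (hE : IsCompact (E : Set X)) : IsLocallyConstructible (fibClosure f (E : Set X)) := by
  let p₁ := pullback.fst f f
  let p₂ := pullback.snd f f
  let δ := pullback.diagonal f
  have hP : IsConstructible (p₁ ⁻¹' (E : Set X)) :=
    MorLib.LimCons.isConstructible_preimage p₁ (hE.isConstructible E.2)
  haveI : LocallyOfFinitePresentation δ := Groth.Agent.S4599.result f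
  have hΔ : IsConstructible (Set.range δ) := by
    have h := δ.isConstructible_image (IsConstructible.univ (X := X))
    rwa [Set.image_univ] at h
  have h := Groth.Agent.ConsPropLib.isLocallyConstructible_setsLocus Groth.Agent.ConsPropLib.stable_dense
    Groth.Agent.ConsPropLib.dichotomy_dense p₂ hP.isLocallyConstructible hΔ.isLocallyConstructible
  convert h using 1
  ext x
  show x ∈ closure ((E : Set X) ∩ f ⁻¹' {f x}) ↔
    Set.range δ ∩ p₂ ⁻¹' {x} ⊆ closure (p₁ ⁻¹' (E : Set X) ∩ p₂ ⁻¹' {x})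
  have hδ₁ : p₁ (δ x) = x := by
    rw [← Scheme.Hom.comp_apply, pullback.diagonal_fst]; rfl
  have hδ₂ : p₂ (δ x) = x := by
    rw [← Scheme.Hom.comp_apply, pullback.diagonal_snd]; rfl
  have hwf : ∀ q, f (p₁ q) = f (p₂ q) := fun q => by
    rw [← Scheme.Hom.comp_apply, ← Scheme.Hom.comp_apply, pullback.condition]
  constructor
  · intro hx
    rintro _ ⟨⟨y, rfl⟩, hy⟩
    obtain rfl : y = x := by
      have : p₂ (δ y) = y := by rw [← Scheme.Hom.comp_apply, pullback.diagonal_snd]; rfl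
      exact this.symm.trans hy
    have h2 := mem_fibClosure_of_isPullback f (IsPullback.of_hasPullback f f) (E : Set X) (δ y)
      (show p₁ (δ y) ∈ fibClosure f (E : Set X) by rw [hδ₁]; exact hx)
    change δ y ∈ closure (p₁ ⁻¹' (E : Set X) ∩ p₂ ⁻¹' {p₂ (δ y)}) at h2
    rwa [hδ₂] at h2
  · intro hx
    have h1 : p₁ (δ x) ∈ closure (p₁ '' (p₁ ⁻¹' (E : Set X) ∩ p₂ ⁻¹' {x})) :=
      image_closure_subset_closure_image p₁.continuous ⟨_, hx ⟨⟨x, rfl⟩, hδ₂⟩, rfl⟩
    rw [hδ₁] at h1
    refine closure_mono ?_ h1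
    rintro _ ⟨q, ⟨hq, hq'⟩, rfl⟩
    exact ⟨hq, (hwf q).trans (congrArg f hq')⟩

/-- The closure of an open of a noetherian space with irreducible open components is open. -/
theorem isOpen_closure_of_isOpen {F : Scheme.{u}} [AlgebraicGeometry.IsNoetherian F]
    (hF : ∀ x : F, IsDomain (F.presheaf.stalk x)) {E : Set F} (hE : IsOpen E) : IsOpen (closure E) := by
  refine isOpen_iff_forall_mem_open.2 fun x hx => ?_
  obtain ⟨hopen, hex⟩ := Groth.Agent.S14401.result F hF
  obtain ⟨Z, ⟨hZ, hxZ⟩, -⟩ := hex x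
  obtain ⟨y, hyZ, hyE⟩ := mem_closure_iff.1 hx Z (hopen Z hZ) hxZ
  refine ⟨Z, fun z hz => ?_, hopen Z hZ, hxZ⟩
  exact closure_mono Set.inter_subset_right
    (subset_closure_inter_of_isPreirreducible_of_isOpen hZ.1.2 hE ⟨y, hyZ, hyE⟩ hz)

theorem connectedComponentIn_subset_fibClosure [Smooth f] [QuasiCompact f] (E : X.Opens) {y : Y} {x₀ : X}
    (hx₀ : x₀ ∈ E) (hy : f x₀ = y) : connectedComponentIn (f ⁻¹' {y}) x₀ ⊆ fibClosure f (E : Set X) := by
  let ι := f.fiberι y
  let p : f.fiber y ⟶ Spec (CommRingCat.of (Y.residueField y)) := f.fiberToSpecResidueField y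
  haveI : Smooth p := inferInstanceAs (Smooth (pullback.snd f _))
  haveI : LocallyOfFinitePresentation p := inferInstance
  haveI : IsLocallyNoetherian (f.fiber y) := LocallyOfFiniteType.isLocallyNoetherian p
  haveI : CompactSpace (f.fiber y) := QuasiCompact.compactSpace_of_compactSpace p
  haveI : AlgebraicGeometry.IsNoetherian (f.fiber y) := {}
  have hdom : ∀ z : f.fiber y, IsDomain ((f.fiber y).presheaf.stalk z) := fun z => by
    haveI := SmoothReg.isRegularLocalRing_stalk_of_mem_smoothLocus p (x := z) ((Scheme.Hom.smoothLocus_eq_top p).ge trivial)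
    exact RegLoc6.isDomain_of_isRegularLocalRing _
  let K := closure (ι ⁻¹' (E : Set X))
  have hK : IsClopen K := ⟨isClosed_closure, isOpen_closure_of_isOpen hdom (E.2.preimage ι.continuous)⟩
  obtain ⟨w₀, hw₀⟩ : x₀ ∈ Set.range ι := (f.range_fiberι y).ge hy
  intro x hx
  obtain ⟨w, hw⟩ : x ∈ Set.range ι := (f.range_fiberι y).ge (connectedComponentIn_subset _ _ hx)
  have hpre : _root_.IsPreconnected (ι ⁻¹' connectedComponentIn (f ⁻¹' {y}) x₀) := by
    rw [← ι.isEmbedding.isInducing.isPreconnected_image, Set.image_preimage_eq_iff.2 ((connectedComponentIn_subset _ _).trans (f.range_fiberι y).ge)]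
    exact isPreconnected_connectedComponentIn
  have hK' : ι ⁻¹' connectedComponentIn (f ⁻¹' {y}) x₀ ⊆ K := hpre.subset_isClopen hK
    ⟨w₀, (by rw [Set.mem_preimage, hw₀]; exact mem_connectedComponentIn hy), subset_closure (by rw [Set.mem_preimage, hw₀]; exact hx₀)⟩
  have h1 : w ∈ K := hK' (show ι w ∈ _ from hw ▸ hx)
  have h2 : ι w ∈ closure ((E : Set X) ∩ f ⁻¹' {y}) := by
    refine closure_mono ?_ (image_closure_subset_closure_image ι.continuous ⟨w, h1, rfl⟩)
    rintro _ ⟨v, hv, rfl⟩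
    exact ⟨hv, (f.range_fiberι y).le ⟨v, rfl⟩⟩
  rw [hw] at h2
  show x ∈ closure ((E : Set X) ∩ f ⁻¹' {f x})
  have hxy : f x = y := connectedComponentIn_subset (f ⁻¹' {y}) x₀ hx
  rwa [hxy]

end Groth.Agent.EtPBC63.SmoothDense
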