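import Groth.Agent.EtPBC63.FlatConn
import Groth.Agent.EtPBC63.Gen
import Groth.Agent.EtFound.PushImm
import Groth.Agent.EtFound.CoprodSections
import Groth.Agent.EtFound.OpenSubterminal

/-!
# The unit of an open immersion over the open
-/

universe u

open CategoryTheory CategoryTheory.Limits AlgebraicGeometry Opposite

namespace Groth.Agent.EtPBC63.SmoothDense

open EtFound Gabber FlatConn

set_option backward.isDefEq.respectTransparency.types false

variable {X U : Scheme.{u}} (j : U ⟶ X) [IsOpenImmersion j] (G : EtCoh.Ab X)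

omit [IsOpenImmersion j] in
theorem pushStalk_unit {Ω : Type u} [Field Ω] [IsSepClosed Ω] (ζ : Spec (CommRingCat.of Ω) ⟶ U)
    (c : (EtCoh.stalk (ζ ≫ j)).obj G) :
    pushStalkMap (A := AddCommGrpCat.{u + 1}) j ζ ((EtCoh.pull j).obj G)
        ((EtCoh.stalk (ζ ≫ j)).map ((EtCoh.pullPushAdj j).unit.app G) c) =
      (sheafFiberPullIso (A := AddCommGrpCat.{u + 1}) j ζ).inv.app G c := by
  obtain ⟨V, v, s, rfl⟩ := (Scheme.pointSmallEtale (ζ ≫ j)).toPresheafFiber_jointly_surjective c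
  obtain ⟨t, rfl⟩ := (bcFiberEquiv j ζ V).surjective v
  refine (congrArg _ (stalk_map_germ ((EtCoh.pullPushAdj j).unit.app G) V _ s)).trans ?_
  exact ((ConcreteCategory.comp_apply _ _ _).symm.trans (ConcreteCategory.congr_hom
    (pushStalkMap_germ (A := AddCommGrpCat.{u + 1}) j ζ ((EtCoh.pull j).obj G) V t) _)).trans (germ_pb j G V t s).symm

theorem bijective_stalk_unit_comp {Ω : Type u} [Field Ω] [IsSepClosed Ω] (ζ : Spec (CommRingCat.of Ω) ⟶ U) :
    Function.Bijective ((EtCoh.stalk (ζ ≫ j)).map ((EtCoh.pullPushAdj j).unit.app G)) := by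
  have h1 := pushStalkMap_bijective (A := AddCommGrpCat.{u + 1}) j (liftable_of_isOpenImmersion j) ζ
    ((EtCoh.pull j).obj G)
  have h2 : Function.Bijective ((sheafFiberPullIso (A := AddCommGrpCat.{u + 1}) j ζ).inv.app G) :=
    (ConcreteCategory.isIso_iff_bijective _).mp inferInstance
  refine (Function.Bijective.of_comp_iff' h1 _).mp ?_
  have e := funext (pushStalk_unit j G ζ)
  exact (congrArg Function.Bijective e).mpr h2

theorem bijective_stalk_unit {Ω : Type u} [Field Ω] [IsSepClosed Ω] (ξ : Spec (CommRingCat.of Ω) ⟶ X)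
    (hξ : ξ.base (default : Spec (CommRingCat.of Ω)) ∈ Set.range j) :
    Function.Bijective ((EtCoh.stalk ξ).map ((EtCoh.pullPushAdj j).unit.app G)) := by
  obtain ⟨ζ, rfl⟩ : ∃ ζ, ζ ≫ j = ξ := ⟨IsOpenImmersion.lift j ξ (by
    rintro _ ⟨o, rfl⟩
    rwa [show o = (default : Spec (CommRingCat.of Ω)) from Subsingleton.elim (α := PrimeSpectrum Ω) _ _]),
    IsOpenImmersion.lift_fac _ _ _⟩
  exact bijective_stalk_unit_comp j G ζ

theorem injective_pb (V : X.Etale) (hV : ∀ x, V.hom.base x ∈ Set.range j) :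
    Function.Injective (pb j G V) := by
  intro a b hab
  rw [← sub_eq_zero]
  refine eq_zero_of_germSupp _ (Set.eq_empty_of_forall_notMem fun q hq => ?_)
  obtain ⟨K, _, _, ξ, z, rfl⟩ := exists_algClosed_point V q
  refine (mem_germSupp_iff _ z).mp hq ((bijective_stalk_unit j G ξ (hom_ptOf z ▸ hV _)).1 ?_)
  refine (stalk_map_germ _ V z _).trans ((congrArg _ (?_ : pb j G V (a - b) = 0)).trans ((map_zero _).trans (map_zero _).symm))
  rw [pb_sub, hab, sub_self]

theorem bijective_pb (V : X.Etale) (hV : ∀ x, V.hom.base x ∈ Set.range j) :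
    Function.Bijective (pb j G V) := by
  refine ⟨injective_pb j G V hV, fun t => ?_⟩
  have hloc : ∀ x : V.left, ∃ (W : X.Etale) (r : W ⟶ V) (w : W.left) (s : G.obj.obj (op W)),
      r.left.base w = x ∧ pb j G W s = ((EtCoh.pull j).obj G).obj.map ((EtCoh.bc j).map r).op t := by
    intro x
    obtain ⟨K, _, _, ξ, z, hz⟩ := exists_algClosed_point V x
    let Φ := Scheme.pointSmallEtale ξ
    let P := (EtCoh.push j).obj ((EtCoh.pull j).obj G)
    obtain ⟨c, hc⟩ := (bijective_stalk_unit j G ξ (hom_ptOf z ▸ hV _)).2 (Φ.toPresheafFiber V z P.obj t)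
    obtain ⟨W₀, w₀, s₀, rfl⟩ := Φ.toPresheafFiber_jointly_surjective c
    obtain ⟨⟨T, o⟩, ⟨a, ha⟩, ⟨b, hb⟩, -⟩ := IsCofilteredOrEmpty.cone_objs (Φ.fiber.elementsMk W₀ w₀) (Φ.fiber.elementsMk V z)
    obtain ⟨a', ha'⟩ : ∃ a' : T ⟶ W₀, Φ.fiber.map a' o = w₀ := ⟨a, ha⟩
    obtain ⟨b', hb'⟩ : ∃ b' : T ⟶ V, Φ.fiber.map b' o = z := ⟨b, hb⟩
    clear ha hb a b
    replace hc : Φ.toPresheafFiber W₀ w₀ P.obj (pb j G W₀ s₀) = Φ.toPresheafFiber V z P.obj t :=
      (stalk_map_germ ((EtCoh.pullPushAdj j).unit.app G) W₀ w₀ s₀).symm.trans hc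
    subst ha' hb'
    rw [← Φ.toPresheafFiber_w_apply, ← Φ.toPresheafFiber_w_apply] at hc
    obtain ⟨W, r, w, hw, he⟩ := (Φ.toPresheafFiber_eq_iff' T o _ _).1 hc
    refine ⟨W, r ≫ b', ptOf w, G.obj.map (r ≫ a').op s₀, ?_, ?_⟩
    · rw [← ptOf_map, Functor.map_comp, ← hz]
      exact congrArg ptOf (congrArg (Φ.fiber.map b') hw)
    · rw [pb_map, Functor.map_comp, Functor.map_comp, op_comp, op_comp, Functor.map_comp_apply,
        Functor.map_comp_apply]
      exact he
  choose W r w s hw hs using hloc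
  have hW : ∀ x y, (W x).hom.base y ∈ Set.range j := fun x y => by
    rw [← apply_hom (r x) y]; exact hV _
  obtain ⟨s', hs', -⟩ := (Presieve.isSheafFor_arrows_iff _ _).1
    (isSheafFor_of_covers G W r fun x => ⟨x, w x, hw x⟩) s (by
    intro x y Z a b hab
    refine injective_pb j G Z (fun q => by rw [← apply_hom a q]; exact hW x _) ?_
    show pb j G Z (G.obj.map a.op (s x)) = pb j G Z (G.obj.map b.op (s y))
    rw [pb_map, pb_map, hs, hs, ← Functor.map_comp_apply, ← Functor.map_comp_apply, ← op_comp, ← op_comp,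
      ← Functor.map_comp, ← Functor.map_comp, hab])
  refine ⟨s', ?_⟩
  refine ((isSheafFor_of_covers ((EtCoh.push j).obj ((EtCoh.pull j).obj G)) W r
    fun x => ⟨x, w x, hw x⟩).isSeparatedFor.ext fun Z g hg => ?_)
  obtain ⟨x⟩ := hg
  show ((EtCoh.pull j).obj G).obj.map ((EtCoh.bc j).map (r x)).op (pb j G V s') =
    ((EtCoh.pull j).obj G).obj.map ((EtCoh.bc j).map (r x)).op t
  rw [← pb_map, show G.obj.map (r x).op s' = s x from hs' x, hs]

end Groth.Agent.EtPBC63.SmoothDense
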