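import Groth.Agent.EtPBC63.SmoothDense.GoodNbhd
import Groth.Agent.EtPBC63.SmoothDense.OpenSub
import Groth.Agent.EtPBC63.RedFib.Main

/-!
# Inverse images along smooth morphisms and fibrewise dense opens
-/

universe u

open CategoryTheory CategoryTheory.Limits AlgebraicGeometry Opposite TensorProduct

namespace Groth.Agent.EtPBC63.SmoothDense

open EtFound Gabber FlatConn RedFib

set_option backward.isDefEq.respectTransparency.types false

variable {X U S : Scheme.{u}} (f : X ⟶ S) (j : U ⟶ X) [IsOpenImmersion j] (F : EtCoh.Ab S)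
  (hd : ∀ x : X, x ∈ closure (Set.range j.base ∩ {y : X | f.base y = f.base x}))

include hd in
omit [IsOpenImmersion j] in
theorem exists_near (V : X.Etale) {y : V.left} {N : Set V.left} (hN : IsOpen N) (hy : y ∈ N) :
    ∃ y' ∈ N, V.hom.base y' ∈ Set.range j.base ∧ f.base (V.hom.base y') = f.base (V.hom.base y) := by
  haveI := V.prop
  obtain ⟨_, ⟨y', hy', rfl⟩, hr, he⟩ := mem_closure_iff.1 (hd (V.hom.base y)) _
    ((inferInstance : AlgebraicGeometry.Etale V.hom) |> fun _ => Scheme.Hom.isOpenMap V.hom _ hN) ⟨y, hy, rfl⟩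
  exact ⟨y', hy', hr, he⟩

include hd in
/-- A section killed on the open is zero. -/
theorem eq_zero_of_pb (V : X.Etale) (τ : ((EtCoh.pull f).obj F).obj.obj (op V))
    (h : pb j ((EtCoh.pull f).obj F) V τ = 0) : τ = 0 := by
  refine eq_zero_of_germSupp _ (Set.eq_empty_of_forall_notMem fun y hy => ?_)
  let a : V ⟶ (EtCoh.bc f).obj (EtCoh.top S) := MorphismProperty.Over.homMk
    (pullback.lift (V.hom ≫ f) V.hom (Category.comp_id _)) (pullback.lift_snd _ _ _) trivial
  have e0 : τ - ((EtCoh.pull f).obj F).obj.map a.op (pb f F (EtCoh.top S) 0) = τ := by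
    rw [show pb f F (EtCoh.top S) 0 = 0 from map_zero _, map_zero, sub_zero]
  obtain ⟨N, hN, hyN, hfib⟩ := fibre_open f F a τ 0 y (e0.symm ▸ hy)
  obtain ⟨y', hy'N, hy'j, hy'f⟩ := exists_near f j hd V hN hyN
  have key : ∀ q : V.left, (pullback.fst (EtCoh.top S).hom f).base (a.left.base q) = f.base (V.hom.base q) :=
    fun q => (Scheme.Hom.comp_apply a.left (pullback.fst (EtCoh.top S).hom f) q).symm.trans
      ((congrArg (fun m : V.left ⟶ S => m.base q) (pullback.lift_fst _ _ _)).trans (Scheme.Hom.comp_apply _ _ _))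
  have hy'D := hfib y' hy'N ((key y').trans (hy'f.trans (key y).symm))
  rw [e0] at hy'D
  obtain ⟨u, hu⟩ := hy'j
  obtain ⟨q, hq, -⟩ := Scheme.Pullback.exists_preimage_pullback (f := V.hom) (g := j) y' u hu.symm
  have hq' := (germSupp_pb j ((EtCoh.pull f).obj F) V τ q).mpr (hq.symm ▸ hy'D)
  rw [h] at hq'
  exact germSupp_zero _ _ _ hq'

/-- A compact subset of an open of an affine scheme lies in a compact open inside it. -/
theorem exists_compact_open {Z : Scheme.{u}} [IsAffine Z] {K O : Set Z} (hK : IsCompact K) (hO : IsOpen O)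
    (h : K ⊆ O) : ∃ E : Z.Opens, IsCompact (E : Set Z) ∧ K ⊆ E ∧ (E : Set Z) ⊆ O := by
  classical
  have hloc : ∀ x : K, ∃ B : Z.Opens, IsCompact (B : Set Z) ∧ (x : Z) ∈ B ∧ (B : Set Z) ⊆ O := fun x => by
    obtain ⟨B, hB, hxB, hBO⟩ := exists_isAffineOpen_mem_and_subset (U := (⟨O, hO⟩ : Z.Opens)) (x := (x : Z)) (h x.2)
    exact ⟨B, hB.isCompact, hxB, hBO⟩
  choose B hB hxB hBO using hloc
  obtain ⟨t, ht⟩ := hK.elim_finite_subcover (fun x => (B x : Set Z)) (fun x => (B x).2)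
    fun x hx => Set.mem_iUnion.2 ⟨⟨x, hx⟩, hxB _⟩
  refine ⟨⟨⋃ x ∈ t, (B x : Set Z), isOpen_biUnion fun x _ => (B x).2⟩,
    t.isCompact_biUnion fun x _ => hB x, ht, Set.iUnion₂_subset fun x _ => hBO x⟩

include hd in
/- The affine-local core. -/
set_option maxHeartbeats 1600000 in
theorem exists_extension [Smooth f] {Ω : Type u} [Field Ω] [IsSepClosed Ω] {ξ : Spec (CommRingCat.of Ω) ⟶ X}
    (V : X.Etale) [IsAffine V.left] (v : (Scheme.pointSmallEtale ξ).fiber.obj V)
    (S₀ : S.Opens) (hS₀ : IsAffineOpen S₀) (hV : ⊤ ≤ (V.hom ≫ f) ⁻¹ᵁ S₀)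
    (t : ((EtCoh.pull j).obj ((EtCoh.pull f).obj F)).obj.obj (op ((EtCoh.bc j).obj V))) :
    ∃ (V' : X.Etale) (m : V' ⟶ V) (v' : (Scheme.pointSmallEtale ξ).fiber.obj V')
      (s : ((EtCoh.pull f).obj F).obj.obj (op V')),
      (Scheme.pointSmallEtale ξ).fiber.map m v' = v ∧
      pb j ((EtCoh.pull f).obj F) V' s =
        ((EtCoh.pull j).obj ((EtCoh.pull f).obj F)).obj.map ((EtCoh.bc j).map m).op t := by
  classical
  let G := (EtCoh.pull f).obj F
  let P := (EtCoh.pull j).obj G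
  haveI := V.prop
  let R := Γ(S, S₀)
  let A := Γ(V.left, ⊤)
  let fV := V.hom ≫ f
  haveI : Smooth fV := MorphismProperty.comp_mem _ _ _ (inferInstance : Smooth V.hom) ‹Smooth f›
  let hA : IsAffineOpen (⊤ : V.left.Opens) := isAffineOpen_top _
  let φ := fV.appLE S₀ ⊤ hV
  letI : Algebra R A := φ.hom.toAlgebra
  haveI : Algebra.FinitePresentation R A := fV.finitePresentation_appLE hS₀ hA hV
  haveI : Module.Flat R A := fV.flat_appLE hS₀ hA hV
  let jV : Spec A ⟶ V.left := hA.fromSpec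
  haveI : IsIso jV := by
    show IsIso (isAffineOpen_top V.left).fromSpec
    rw [IsAffineOpen.fromSpec_top]
    infer_instance
  have hφ : Spec.map φ ≫ hS₀.fromSpec = jV ≫ fV := IsAffineOpen.SpecMap_appLE_fromSpec fV hS₀ hA hV
  haveI hsm : Smooth (Spec.map φ) :=
    (HasRingHomProperty.Spec_iff (P := @Smooth)).2 (HasRingHomProperty.appLE (P := @Smooth) fV inferInstance ⟨S₀, hS₀⟩ ⟨⊤, hA⟩ hV)
  -- reduced fibres
  have hredA : ∀ (L : Type u) [Field L] [Algebra R L], IsReduced (pullback (Spec.map (CommRingCat.ofHom (algebraMap R A)))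
      (Spec.map (CommRingCat.ofHom (algebraMap R L)))) := by
    intro L _ _
    haveI : Smooth (Spec.map (CommRingCat.ofHom (algebraMap R A))) := hsm
    exact GrpSchLib.isReduced_of_smooth_field (K := L)
      (pullback.snd (Spec.map (CommRingCat.ofHom (algebraMap R A))) (Spec.map (CommRingCat.ofHom (algebraMap R L))))
  -- the fibrewise dense open
  let Q : (Spec A).Opens := (jV ≫ V.hom) ⁻¹ᵁ j.opensRange
  have hQ : ∀ y, y ∈ fibClosure (Spec.map (CommRingCat.ofHom (algebraMap R A))) (Q : Set (Spec A)) := by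
    intro y
    refine mem_closure_iff.2 fun O hO hyO => ?_
    obtain ⟨_, ⟨y', hy'O, rfl⟩, hr, he⟩ := exists_near f j hd V (jV.isOpenEmbedding.isOpenMap _ hO)
      ⟨y, hyO, rfl⟩
    refine ⟨y', hy'O, ?_, ?_⟩
    · show (jV ≫ V.hom).base y' ∈ Set.range j.base
      rw [Scheme.Hom.comp_apply]
      exact hr
    · show (Spec.map φ).base y' = (Spec.map φ).base y
      refine hS₀.fromSpec.isOpenEmbedding.injective ?_
      rw [← Scheme.Hom.comp_apply, ← Scheme.Hom.comp_apply, hφ]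
      simp only [fV, Scheme.Hom.comp_apply]
      exact he
  -- the geometric point
  let l : Spec (CommRingCat.of Ω) ⟶ V.left := v.left
  obtain ⟨ω₀, hω₀⟩ := Spec.map_surjective (l ≫ inv jV)
  letI : Algebra R Ω := (ω₀.hom.comp (algebraMap R A)).toAlgebra
  let ω : A →ₐ[R] Ω := { ω₀.hom with commutes' := fun _ => rfl }
  obtain ⟨R', _, _, het, χ, α, hαQ, hSC⟩ := exists_good_nbhd hredA Q hQ ω
  let gU := Spec.map (CommRingCat.ofHom (algebraMap R R'))
  haveI : Etale gU := (HasRingHomProperty.Spec_iff (P := @Etale)).2 (RingHom.etale_algebraMap.2 het)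
  haveI : Etale (gU ≫ hS₀.fromSpec) := inferInstance
  let Ũ : S.Etale := Scheme.Etale.mk (gU ≫ hS₀.fromSpec)
  let B := R' ⊗[R] A
  let iR := Spec.map (CommRingCat.ofHom (Algebra.TensorProduct.includeRight : A →ₐ[R] B).toRingHom)
  let iL := Spec.map (CommRingCat.ofHom (algebraMap R' B))
  have hsq : IsPullback iR iL (Spec.map φ) gU := GeomRedFlat5.isPullback_tensor R R' A
  haveI : Etale iR := MorphismProperty.of_isPullback hsq.flip ‹Etale gU›
  haveI : Smooth iL := MorphismProperty.of_isPullback hsq hsm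
  haveI : Etale ((iR ≫ jV) ≫ V.hom) := inferInstance
  let V₂ : X.Etale := Scheme.Etale.mk ((iR ≫ jV) ≫ V.hom)
  have hw2 : iL ≫ gU ≫ hS₀.fromSpec = ((iR ≫ jV) ≫ V.hom) ≫ f := by
    rw [← Category.assoc, ← hsq.w, Category.assoc, hφ]
    simp only [fV, Category.assoc]
  let r : V₂ ⟶ (EtCoh.bc f).obj Ũ :=
    MorphismProperty.Over.homMk (pullback.lift iL ((iR ≫ jV) ≫ V.hom) hw2) (pullback.lift_snd _ _ _) trivial
  let m : V₂ ⟶ V := MorphismProperty.Over.homMk (iR ≫ jV) rfl trivial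
  let lz := Spec.map (CommRingCat.ofHom (Algebra.TensorProduct.lift χ ω fun _ _ => Commute.all _ _).toRingHom)
  have hlz : lz ≫ iR ≫ jV = l := by
    have h1 : lz ≫ iR = Spec.map ω₀ := by
      rw [comp_spec_map]
      refine congrArg Spec.map (CommRingCat.hom_ext (RingHom.ext fun a => ?_))
      show (Algebra.TensorProduct.lift χ ω fun _ _ => Commute.all _ _) ((1 : R') ⊗ₜ[R] a) = ω₀.hom a
      rw [Algebra.TensorProduct.lift_tmul, map_one, one_mul]
      rfl
    rw [← Category.assoc, h1, hω₀, Category.assoc, IsIso.inv_hom_id, Category.comp_id]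
  let v₂ : (Scheme.pointSmallEtale ξ).fiber.obj V₂ := CategoryTheory.Over.homMk lz (by
    show lz ≫ (iR ≫ jV) ≫ V.hom = ξ
    rw [← Category.assoc lz, hlz]
    exact CategoryTheory.Over.w v)
  have hmv : (Scheme.pointSmallEtale ξ).fiber.map m v₂ = v := CategoryTheory.Over.OverMorphism.ext hlz
  -- the section
  let σ : Spec (CommRingCat.of R') ⟶ Spec (CommRingCat.of B) := Spec.map (CommRingCat.ofHom
    (Algebra.TensorProduct.lift (AlgHom.id R R') α fun _ _ => Commute.all _ _).toRingHom)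
  have hσ : σ ≫ iL = 𝟙 _ := by
    refine (comp_spec_map _ _).trans ?_
    rw [show (Algebra.TensorProduct.lift (AlgHom.id R R') α fun _ _ => Commute.all _ _).toRingHom.comp
      (algebraMap R' B) = RingHom.id R' from RingHom.ext fun a => by
        show (Algebra.TensorProduct.lift (AlgHom.id R R') α fun _ _ => Commute.all _ _) (a ⊗ₜ[R] (1 : A)) = a
        rw [Algebra.TensorProduct.lift_tmul, map_one, mul_one]; rfl, CommRingCat.ofHom_id, Spec.map_id]
  let OW : (Spec (CommRingCat.of B)).Opens := ((iR ≫ jV) ≫ V.hom) ⁻¹ᵁ j.opensRange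
  let W := restrictEtale V₂ OW
  let ι : W ⟶ V₂ := restrictEtaleHom V₂ OW
  have hσW : ∀ p, σ.base p ∈ OW := by
    intro p
    show ((iR ≫ jV) ≫ V.hom).base (σ.base p) ∈ Set.range j.base
    rw [← Scheme.Hom.comp_apply, show σ ≫ (iR ≫ jV) ≫ V.hom = (σ ≫ iR) ≫ jV ≫ V.hom by simp only [Category.assoc],
      Scheme.Hom.comp_apply]
    have h1 : σ ≫ iR = Spec.map (CommRingCat.ofHom α.toRingHom) := by
      rw [comp_spec_map]
      refine congrArg Spec.map (CommRingCat.hom_ext (RingHom.ext fun a => ?_))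
      show (Algebra.TensorProduct.lift (AlgHom.id R R') α fun _ _ => Commute.all _ _) ((1 : R') ⊗ₜ[R] a) = α a
      rw [Algebra.TensorProduct.lift_tmul, map_one, one_mul]
    rw [h1]
    exact hαQ p
  let jσ₀ : Spec (CommRingCat.of R') ⟶ OW.toScheme := IsOpenImmersion.lift OW.ι σ
    (by rintro _ ⟨p, rfl⟩; exact ⟨⟨_, hσW p⟩, rfl⟩)
  let jσ : Spec (CommRingCat.of R') ⟶ W.left := jσ₀
  have hjσ : jσ ≫ OW.ι = σ := IsOpenImmersion.lift_fac OW.ι σ _
  let a : W ⟶ (EtCoh.bc f).obj Ũ := ι ≫ r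
  have haL : a.left ≫ pullback.fst Ũ.hom f = OW.ι ≫ iL :=
    (Category.assoc _ _ _).trans (congrArg (OW.ι ≫ ·) (pullback.lift_fst _ _ _))
  have hj : jσ ≫ a.left ≫ pullback.fst Ũ.hom f = 𝟙 _ :=
    (congrArg (jσ ≫ ·) haL).trans ((Category.assoc _ _ _).symm.trans ((congrArg (· ≫ iL) hjσ).trans hσ))
  have hWU : ∀ x, W.hom.base x ∈ Set.range j.base := by
    intro x
    show (OW.ι ≫ V₂.hom).base x ∈ Set.range j.base
    rw [Scheme.Hom.comp_apply]
    exact x.2
  obtain ⟨τ, hτ⟩ := (bijective_pb j G W hWU).2 (P.obj.map ((EtCoh.bc j).map (ι ≫ m)).op t)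
  obtain ⟨s, hs⟩ := exists_section_along f F a jσ hj τ
  let D := germSupp G W (τ - G.obj.map a.op (pb f F Ũ s))
  -- a compact open around the section
  have hDc : IsOpen (OW.ι.base '' Dᶜ) := OW.ι.isOpenEmbedding.isOpenMap _ (isClosed_germSupp _ _ _).isOpen_compl
  obtain ⟨E, hE, hσE, hED⟩ := exists_compact_open (Z := Spec (CommRingCat.of B))
    (isCompact_range σ.continuous) hDc (by
    rintro _ ⟨p, rfl⟩
    exact ⟨jσ.base p, hs p, (Scheme.Hom.comp_apply jσ OW.ι p).symm.trans congr($hjσ p)⟩)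
  -- the agreement spreads over the closures in the fibres
  have hCD : ∀ y ∈ D, OW.ι.base y ∉ fibClosure iL (E : Set (Spec (CommRingCat.of B))) := by
    intro y hy hyC
    obtain ⟨N, hN, hyN, hfib⟩ := fibre_open f F a τ s y hy
    obtain ⟨_, ⟨y', hy'N, rfl⟩, hy'E, hy'f⟩ :=
      mem_closure_iff.1 hyC _ (OW.ι.isOpenEmbedding.isOpenMap _ hN) ⟨y, hyN, rfl⟩
    have key : ∀ q : W.left, (pullback.fst Ũ.hom f).base (a.left.base q) = iL.base (OW.ι.base q) := fun q =>
      (Scheme.Hom.comp_apply a.left (pullback.fst Ũ.hom f) q).symm.trans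
        ((congrArg (fun k : W.left ⟶ Ũ.left => k.base q) haL).trans (Scheme.Hom.comp_apply _ _ _))
    obtain ⟨y'', hy''D, hy''⟩ := hED hy'E
    have h1 := hfib y' hy'N ((key y').trans (hy'f.trans (key y).symm))
    exact hy''D (OW.ι.isOpenEmbedding.injective hy'' ▸ h1)
  let z₀ : Spec (CommRingCat.of B) := ptOf v₂
  have hz₀ : z₀ ∈ MoreMor.sectionComponents iL σ := by
    have e : z₀ = (⟨RingHom.ker (Algebra.TensorProduct.lift χ ω fun _ _ => Commute.all _ _).toRingHom,
        RingHom.ker_isPrime _⟩ : PrimeSpectrum (R' ⊗[R] A)) := by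
      refine PrimeSpectrum.ext ?_
      show PrimeSpectrum.asIdeal (lz.base (default : Spec (CommRingCat.of Ω))) = _
      rw [Subsingleton.elim (α := PrimeSpectrum Ω) (default : Spec (CommRingCat.of Ω)) ⟨⊥, Ideal.isPrime_bot⟩]
      rfl
    rw [e]
    exact hSC
  have hE' : ∀ z : Spec (CommRingCat.of B), GeomRedFlat5.E iL z := fun z =>
    (GeomRedFlat5.E_iff_of_isPullback hsq z).2 (E_of_forall_field _ (fun L _ k => by
      obtain ⟨ψ, rfl⟩ := Spec.map_surjective k
      letI : Algebra R L := ψ.hom.toAlgebra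
      exact hredA L) _)
  have hC : fibClosure iL (E : Set (Spec (CommRingCat.of B))) ∈ nhds z₀ :=
    FibDim.mem_nhds_of_generizations (isLocallyConstructible_fibClosure iL E hE) fun z' hz' => by
      have h1 := mem_sectionComponents_of_specializes (X := Spec (CommRingCat.of B)) (Y := Spec (CommRingCat.of R'))
        iL σ hσ (x := z₀) (x' := z') hz' (fun z _ => hE' z) hz₀
      refine connectedComponentIn_subset_fibClosure iL E (x₀ := σ.base (iL.base z')) (hσE ⟨_, rfl⟩) ?_ h1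
      rw [← Scheme.Hom.comp_apply, hσ]; rfl
  obtain ⟨O', hO'C, hO', hzO'⟩ := mem_nhds_iff.1 hC
  let O : (Spec (CommRingCat.of B)).Opens := ⟨O', hO'⟩
  let ιO : restrictEtale V₂ O ⟶ V₂ := restrictEtaleHom V₂ O
  obtain ⟨v', hv', -⟩ := exists_lift_point ιO v₂ ⟨z₀, hzO'⟩ rfl
  refine ⟨restrictEtale V₂ O, ιO ≫ m, v', G.obj.map (ιO ≫ r).op (pb f F Ũ s), ?_, ?_⟩
  · rw [Functor.map_comp]
    exact (congrArg _ hv').trans hmv
  -- compare over the common open
  let W' := restrictEtale V₂ (O ⊓ OW)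
  let k₁ : W' ⟶ restrictEtale V₂ O := MorphismProperty.Over.homMk (Scheme.homOfLE _ (inf_le_left : O ⊓ OW ≤ O))
    ((Category.assoc _ _ _).symm.trans (congrArg (· ≫ V₂.hom) (Scheme.homOfLE_ι _ _))) trivial
  let k₂ : W' ⟶ W := MorphismProperty.Over.homMk (Scheme.homOfLE _ (inf_le_right : O ⊓ OW ≤ OW))
    ((Category.assoc _ _ _).symm.trans (congrArg (· ≫ V₂.hom) (Scheme.homOfLE_ι _ _))) trivial
  have hk : k₁ ≫ ιO = k₂ ≫ ι := MorphismProperty.Over.Hom.ext
    ((Scheme.homOfLE_ι _ (inf_le_left : O ⊓ OW ≤ O)).trans (Scheme.homOfLE_ι _ (inf_le_right : O ⊓ OW ≤ OW)).symm)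
  have e1 : G.obj.map k₂.op τ = G.obj.map k₁.op (G.obj.map (ιO ≫ r).op (pb f F Ũ s)) := by
    rw [← Functor.map_comp_apply, ← op_comp, ← Category.assoc, hk, Category.assoc, op_comp, Functor.map_comp_apply,
      ← sub_eq_zero, ← map_sub]
    refine eq_zero_of_germSupp _ (Set.eq_empty_of_forall_notMem fun q hq => ?_)
    have h1 : k₂.left.base q ∈ D := (germSupp_map k₂ _ q).mp hq
    refine hCD _ h1 (hO'C ?_)
    show (k₂.left ≫ OW.ι).base q ∈ O
    rw [show k₂.left ≫ OW.ι = (O ⊓ OW).ι from Scheme.homOfLE_ι _ (inf_le_right : O ⊓ OW ≤ OW)]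
    exact q.2.1
  rw [← sub_eq_zero]
  refine eq_zero_of_germSupp _ (Set.eq_empty_of_forall_notMem fun q hq => ?_)
  let x : (restrictEtale V₂ O).left := (pullback.fst (restrictEtale V₂ O).hom j).base q
  have hx : ιO.left.base x ∈ OW := by
    show (V₂.hom).base (O.ι.base x) ∈ Set.range j.base
    refine ⟨(pullback.snd (restrictEtale V₂ O).hom j).base q, ?_⟩
    exact (Scheme.Hom.comp_apply _ _ q).symm.trans ((congrArg (fun k : pullback (restrictEtale V₂ O).hom j ⟶ X => k.base q)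
      (pullback.condition (f := (restrictEtale V₂ O).hom) (g := j)).symm).trans
      ((Scheme.Hom.comp_apply _ _ q).trans (Scheme.Hom.comp_apply O.ι V₂.hom x)))
  let x' : W'.left := ⟨ιO.left.base x, x.2, hx⟩
  have hx' : k₁.left.base x' = x := O.ι.isOpenEmbedding.injective
    ((Scheme.Hom.comp_apply _ _ _).symm.trans (congrArg (fun k : W'.left ⟶ V₂.left => k.base x') (Scheme.homOfLE_ι _ (inf_le_left : O ⊓ OW ≤ O))))
  obtain ⟨q', hq', -⟩ := Scheme.Pullback.exists_preimage_pullback (f := W'.hom) (g := j) x'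
    ((pullback.snd (restrictEtale V₂ O).hom j).base q) (by
      rw [← apply_hom k₁ x', hx']
      exact (Scheme.Hom.comp_apply _ _ _).symm.trans ((congrArg (fun k : pullback (restrictEtale V₂ O).hom j ⟶ X => k.base q)
        (pullback.condition (f := (restrictEtale V₂ O).hom) (g := j))).trans (Scheme.Hom.comp_apply _ _ _)))
  have hqq : ((EtCoh.bc j).map k₁).left.base q' = q := by
    refine (pullback.fst (restrictEtale V₂ O).hom j).isOpenEmbedding.injective ?_
    rw [bc_fst j k₁ q', hq', hx']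
  rw [← hqq] at hq
  replace hq := (germSupp_map ((EtCoh.bc j).map k₁) _ q').mpr hq
  rw [map_sub, ← pb_map, ← e1, pb_map, hτ, ← Functor.map_comp_apply, ← Functor.map_comp_apply, ← op_comp, ← op_comp,
    ← Functor.map_comp, ← Functor.map_comp, ← Category.assoc k₂, ← hk, Category.assoc, sub_self] at hq
  exact germSupp_zero _ _ _ hq

include hd in
theorem isIso_unit [Smooth f] : IsIso ((EtCoh.pullPushAdj j).unit.app ((EtCoh.pull f).obj F)) := by
  let G := (EtCoh.pull f).obj F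
  let P := (EtCoh.pull j).obj G
  refine isIso_of_stalks _ fun Ω _ _ ξ => ⟨?_, fun c => ?_⟩
  · refine (injective_iff_map_eq_zero _).mpr fun c hc => ?_
    let Φ := Scheme.pointSmallEtale ξ
    obtain ⟨V, z, s, rfl⟩ := Φ.toPresheafFiber_jointly_surjective c
    replace hc := (stalk_map_germ ((EtCoh.pullPushAdj j).unit.app G) V z s).symm.trans hc
    rw [← map_zero (Φ.toPresheafFiber V z ((EtCoh.push j).obj P).obj).hom] at hc
    obtain ⟨V', r, v, hv, he⟩ := (Φ.toPresheafFiber_eq_iff' _ z _ _).1 hc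
    rw [map_zero] at he
    have h0 : G.obj.map r.op s = 0 := eq_zero_of_pb f j F hd V' _ (by rw [pb_map]; exact he)
    refine ((congrArg (fun w => Φ.toPresheafFiber V w G.obj s) hv.symm).trans
      (Φ.toPresheafFiber_w_apply r v G.obj s).symm).trans ?_
    rw [h0, map_zero]
  · let Φ := Scheme.pointSmallEtale ξ
    obtain ⟨V₀, v₀, t₀, rfl⟩ := Φ.toPresheafFiber_jointly_surjective c
    obtain ⟨S₀, hS₀, hsS₀, -⟩ := exists_isAffineOpen_mem_and_subset (U := (⊤ : S.Opens))
      (x := (V₀.hom ≫ f).base (ptOf v₀)) trivial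
    let O : V₀.left.Opens := (V₀.hom ≫ f) ⁻¹ᵁ S₀
    obtain ⟨v₁, hv₁, -⟩ := exists_lift_point (restrictEtaleHom V₀ O) v₀ ⟨ptOf v₀, hsS₀⟩ rfl
    obtain ⟨V, hV, r₁, v, hv⟩ := exists_affine_nhd (restrictEtale V₀ O) v₁
    haveI := hV
    let r₀ : V ⟶ V₀ := r₁ ≫ restrictEtaleHom V₀ O
    have hr₀ : Φ.fiber.map r₀ v = v₀ := by
      rw [Functor.map_comp]
      exact (congrArg _ hv).trans hv₁
    have hle : ⊤ ≤ (V.hom ≫ f) ⁻¹ᵁ S₀ := by
      intro x _
      show (V.hom ≫ f).base x ∈ S₀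
      rw [← MorphismProperty.Over.w r₀, Category.assoc, Scheme.Hom.comp_apply]
      exact (r₁.left.base x).2
    obtain ⟨V', m, v', s, hmv, heq⟩ := exists_extension f j F hd V v S₀ hS₀ hle
      (((EtCoh.push j).obj P).obj.map r₀.op t₀)
    refine ⟨Φ.toPresheafFiber V' v' G.obj s, (stalk_map_germ ((EtCoh.pullPushAdj j).unit.app G) V' v' s).trans ?_⟩
    refine (congrArg _ (heq : pb j G V' s = _)).trans ?_
    show Φ.toPresheafFiber V' v' ((EtCoh.push j).obj P).obj (((EtCoh.push j).obj P).obj.map m.op _) = _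
    rw [Φ.toPresheafFiber_w_apply m v' ((EtCoh.push j).obj P).obj, hmv]
    exact (Φ.toPresheafFiber_w_apply r₀ v ((EtCoh.push j).obj P).obj t₀).trans
      (congrArg (fun w => Φ.toPresheafFiber V₀ w ((EtCoh.push j).obj P).obj t₀) hr₀)

end Groth.Agent.EtPBC63.SmoothDense
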